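import Mathlib

/-!
# A directed system of subschemes containing all infinitesimal fibres
-/

set_option autoImplicit false
set_option backward.isDefEq.respectTransparency.types false
set_option backward.isDefEq.respectTransparency false
set_option linter.style.setOption false
set_option linter.style.haveILetI false
set_option linter.unusedSectionVars false

universe u

open CategoryTheory CategoryTheory.Limits AlgebraicGeometry TopologicalSpace

noncomputable section

namespace Groth.Agent.FiltSub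

theorem eq_bot_of_torsion {O : Type*} [CommRing O] [IsLocalRing O] [IsNoetherianRing O] (K : Ideal O)
    (h : ∀ r ∈ K, ∀ P : Ideal O, P.IsPrime → P ≠ IsLocalRing.maximalIdeal O → ∃ c ∉ P, c * r = 0) :
    ∃ n : ℕ, K ⊓ IsLocalRing.maximalIdeal O ^ n = ⊥ := by
  let m := IsLocalRing.maximalIdeal O
  have h1 : ∀ r ∈ K, ∃ N : ℕ, ∀ x ∈ m ^ N, x * r = 0 := fun r hr => by
    let A : Ideal O := LinearMap.ker (LinearMap.mulRight O r)
    have hle : m ≤ A.radical := by
      rw [Ideal.radical_eq_sInf]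
      refine le_sInf ?_
      rintro P ⟨hP, hPp⟩
      by_contra hne
      obtain ⟨c, hc, hcr⟩ := h r hr P hPp fun e => hne e.ge
      exact hc (hP (by simpa [A] using hcr))
    obtain ⟨N, hN⟩ := Ideal.exists_pow_le_of_le_radical_of_fg hle (IsNoetherian.noetherian m)
    exact ⟨N, fun x hx => by simpa [A] using hN hx⟩
  choose! N hN using h1
  obtain ⟨s, hs⟩ := IsNoetherian.noetherian K
  let M := s.sup N
  have hsK : ∀ r ∈ s, r ∈ K := fun r hr => hs ▸ Submodule.subset_span hr
  have hK : m ^ M • (K : Submodule O O) = ⊥ := by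
    rw [← hs, eq_bot_iff]
    refine Submodule.smul_le.2 fun x hx r hr => ?_
    induction hr using Submodule.span_induction with
    | mem r hr => simpa using hN r (hsK r hr) x (Ideal.pow_le_pow_right (Finset.le_sup hr) hx)
    | zero => simp
    | add a b _ _ ha hb => simp only [Submodule.mem_bot] at ha hb ⊢; rw [smul_add, ha, hb, add_zero]
    | smul a b _ hb => simp only [Submodule.mem_bot] at hb ⊢; rw [smul_comm, hb, smul_zero]
  obtain ⟨k, hk⟩ := Ideal.exists_pow_inf_eq_pow_smul m (K : Submodule O O)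
  refine ⟨k + M, eq_bot_iff.2 ?_⟩
  rintro r ⟨hr, hr'⟩
  have h2 : r ∈ m ^ (k + M) • (⊤ : Submodule O O) ⊓ K := ⟨by simpa using hr', hr⟩
  rw [hk (k + M) (Nat.le_add_right k M), Nat.add_sub_cancel_left] at h2
  exact (hK ▸ Submodule.smul_mono le_rfl inf_le_right h2 : r ∈ (⊥ : Submodule O O))

variable {X : Scheme.{u}} {D : Type u} [Preorder D] (Xi : D → Scheme.{u}) (x : ∀ i, Xi i ⟶ X)

/-- The open where the `i`-th subscheme is everything. -/
def good (i : D) : X.Opens := sSup {V : X.Opens | ∃ l : (V : Scheme.{u}) ⟶ Xi i, l ≫ x i = V.ι}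

theorem good_mono (hmono : ∀ i j, i ≤ j → ∃ t : Xi i ⟶ Xi j, t ≫ x j = x i) {i j : D} (hij : i ≤ j) :
    good Xi x i ≤ good Xi x j := by
  obtain ⟨t, ht⟩ := hmono i j hij
  exact sSup_le_sSup fun V ⟨l, hl⟩ => ⟨l ≫ t, by rw [Category.assoc, ht, hl]⟩

theorem isIso_of_good_eq_top (i : D) [IsImmersion (x i)] (h : good Xi x i = ⊤) : IsIso (x i) := by
  let ι := {V : X.Opens | ∃ l : (V : Scheme.{u}) ⟶ Xi i, l ≫ x i = V.ι}
  have hU : ⨆ V : ι, (V : X.Opens) = ⊤ := by rw [← sSup_eq_iSup']; exact h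
  refine (IsZariskiLocalAtTarget.iff_of_iSup_eq_top (P := MorphismProperty.isomorphisms Scheme.{u})
    (f := x i) (fun V : ι => (V : X.Opens)) hU).2 fun V => ?_
  obtain ⟨l, hl⟩ := V.2
  let w := (isPullback_morphismRestrict (x i) V.1).lift (𝟙 _) l (by rw [Category.id_comp, hl])
  haveI : IsSplitEpi (x i ∣_ V.1) := IsSplitEpi.mk' ⟨w, IsPullback.lift_fst _ _ _ _⟩
  show IsIso (x i ∣_ V.1)
  exact isIso_of_mono_of_isSplitEpi _

theorem ker_eq_of_good (i : D) [IsImmersion (x i)] (y : X) (hy : y ∈ good Xi x i) :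
    ∃ a, x i a = y ∧ ∀ b, x i b = y → Function.Injective ((x i).stalkMap b).hom := by
  obtain ⟨(V : X.Opens), ⟨l, hl⟩, hyV⟩ := Opens.mem_sSup.1 hy
  have ha : x i (l ⟨y, hyV⟩) = y := by rw [← Scheme.Hom.comp_apply, hl]; rfl
  refine ⟨l ⟨y, hyV⟩, ha, fun b hb => ?_⟩
  obtain rfl : b = l ⟨y, hyV⟩ := (x i).isEmbedding.injective (hb.trans ha.symm)
  have hi : Function.Injective ((l ≫ x i).stalkMap ⟨y, hyV⟩).hom := by
    rw [hl]; exact (ConcreteCategory.bijective_of_isIso (Scheme.Hom.stalkMap V.ι ⟨y, hyV⟩)).injective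
  rw [Scheme.Hom.stalkMap_comp] at hi
  intro c d hcd
  apply hi
  rw [CommRingCat.hom_comp, RingHom.comp_apply, RingHom.comp_apply]
  exact congrArg _ hcd

theorem isLocalHom_stalkMap_surj {Y Z : Scheme.{u}} (g : Y ⟶ Z) [IsPreimmersion g] (a : Y) :
    Function.Surjective (g.stalkMap a).hom := g.stalkMap_surjective a

theorem mem_good_of_injective [IsLocallyNoetherian X] (i : D) [IsImmersion (x i)] (a : Xi i)
    (ha : Function.Injective ((x i).stalkMap a).hom) : x i a ∈ good Xi x i := by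
  haveI : IsIso ((x i).stalkMap a) := (ConcreteCategory.isIso_iff_bijective _).2
    ⟨ha, (x i).stalkMap_surjective a⟩
  obtain ⟨U, hU, f, -, hf⟩ := spread_out_of_isGermInjective' (X := X) (S := X) (Y := Xi i) (𝟙 X) (x i)
    (x := x i a) (Spec.map (inv ((x i).stalkMap a)) ≫ (Xi i).fromSpecStalk a) (by
      rw [Category.assoc, ← Scheme.SpecMap_stalkMap_fromSpecStalk, ← Spec.map_comp_assoc, IsIso.hom_inv_id,
        Spec.map_id, Category.id_comp, Category.comp_id])
  exact Opens.mem_sSup.2 ⟨U, ⟨f, by rw [hf, Category.comp_id]⟩, hU⟩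

theorem ker_le_of_thick {Y : Scheme.{u}} (g : Y ⟶ X) [IsPreimmersion g] {z : X} {R : CommRingCat.{u}} [IsLocalRing R]
    (mk' : X.presheaf.stalk z ⟶ R) [IsLocalHom mk'.hom] (l : Spec R ⟶ Y)
    (hl : l ≫ g = Spec.map mk' ≫ X.fromSpecStalk z) (b : Y) (hb : g b = z) {n : ℕ}
    (hk : ∀ r, mk'.hom r = 0 → r ∈ IsLocalRing.maximalIdeal (X.presheaf.stalk z) ^ n) :
    RingHom.ker (g.stalkMap b).hom ≤ IsLocalRing.maximalIdeal (X.presheaf.stalk (g b)) ^ n := by
  subst hb
  obtain rfl : l (IsLocalRing.closedPoint R) = b := g.isEmbedding.injective (by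
    rw [← Scheme.Hom.comp_apply, hl, Scheme.Hom.comp_apply,
      show Spec.map mk' (IsLocalRing.closedPoint R) = IsLocalRing.closedPoint _ from
        IsLocalRing.comap_closedPoint mk'.hom,
      Scheme.fromSpecStalk_closedPoint])
  have hψ : g.stalkMap _ ≫ Scheme.stalkClosedPointTo l = mk' := by
    apply Spec.map_injective
    rw [← cancel_mono (X.fromSpecStalk (g (l (IsLocalRing.closedPoint R))))]
    refine Eq.trans ?_ hl
    rw [Spec.map_comp, Category.assoc, Scheme.SpecMap_stalkMap_fromSpecStalk,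
      Scheme.Spec_stalkClosedPointTo_fromSpecStalk_assoc]
  intro r hr
  refine hk r ?_
  rw [← hψ, CommRingCat.hom_comp, RingHom.comp_apply, RingHom.mem_ker.1 hr, map_zero]

theorem main {S : Scheme.{u}} [IsNoetherian S] (f : X ⟶ S) [LocallyOfFiniteType f] [QuasiCompact f]
    [IsDirected D (fun a b => a ≤ b)] [Nonempty D] (hx : ∀ i, IsImmersion (x i))
    (hmono : ∀ i j, i ≤ j → ∃ t : Xi i ⟶ Xi j, t ≫ x j = x i)
    (h : ∀ (s : S) (n : ℕ), ∃ i : D,
      IsIso (pullback.snd (x i) (pullback.fst f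
        (Spec.map (CommRingCat.ofHom (Ideal.Quotient.mk (IsLocalRing.maximalIdeal (S.presheaf.stalk s) ^ (n + 1)))) ≫ S.fromSpecStalk s)))) :
    ∃ i : D, IsIso (x i) := by
  haveI : IsLocallyNoetherian X := LocallyOfFiniteType.isLocallyNoetherian f
  haveI : CompactSpace X := QuasiCompact.compactSpace_of_compactSpace f
  haveI : IsNoetherian X := {}
  haveI := hx
  -- thickenings of points
  have hthick : ∀ (z : X) (n : ℕ), ∃ i a, x i a = z ∧ ∀ b, x i b = z →
      RingHom.ker ((x i).stalkMap b).hom ≤ IsLocalRing.maximalIdeal (X.presheaf.stalk (x i b)) ^ (n + 1) := by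
    intro z n
    obtain ⟨i, hi⟩ := h (f z) n
    haveI := hi
    let J := IsLocalRing.maximalIdeal (S.presheaf.stalk (f z)) ^ (n + 1)
    let J' := J.map (f.stalkMap z).hom
    have hJ : J' ≤ IsLocalRing.maximalIdeal (X.presheaf.stalk z) ^ (n + 1) := by
      show Ideal.map _ (_ ^ _) ≤ _
      rw [Ideal.map_pow]
      exact Ideal.pow_right_mono (Ideal.map_le_iff_le_comap.2 fun c hc => Ideal.mem_comap.2 (map_nonunit (f.stalkMap z).hom c hc)) _
    let φ : CommRingCat.of (S.presheaf.stalk (f z) ⧸ J) ⟶ CommRingCat.of (X.presheaf.stalk z ⧸ J') :=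
      CommRingCat.ofHom (Ideal.quotientMap J' (f.stalkMap z).hom Ideal.le_comap_map)
    let T := Spec (CommRingCat.of (X.presheaf.stalk z ⧸ J'))
    let mk' : X.presheaf.stalk z ⟶ CommRingCat.of (X.presheaf.stalk z ⧸ J') := CommRingCat.ofHom (Ideal.Quotient.mk J')
    let p : T ⟶ X := Spec.map mk' ≫ X.fromSpecStalk z
    have hc : f.stalkMap z ≫ mk' = CommRingCat.ofHom (Ideal.Quotient.mk J) ≫ φ := by ext r; rfl
    let w : T ⟶ pullback f (Spec.map (CommRingCat.ofHom (Ideal.Quotient.mk J)) ≫ S.fromSpecStalk (f z)) :=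
      pullback.lift p (Spec.map φ) (by
        rw [← Category.assoc (Spec.map φ), ← Spec.map_comp, ← hc, Spec.map_comp, Category.assoc,
          Category.assoc, Scheme.SpecMap_stalkMap_fromSpecStalk])
    let l : T ⟶ Xi i := w ≫ inv (pullback.snd (x i) (pullback.fst f
      (Spec.map (CommRingCat.ofHom (Ideal.Quotient.mk J)) ≫ S.fromSpecStalk (f z)))) ≫
        pullback.fst (x i) _
    have hl : l ≫ x i = p := by
      simp only [l, Category.assoc]
      rw [pullback.condition, IsIso.inv_hom_id_assoc]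
      exact pullback.lift_fst _ _ _
    haveI : Nontrivial (X.presheaf.stalk z ⧸ J') := Ideal.Quotient.nontrivial_iff.2 fun e =>
      (IsLocalRing.maximalIdeal.isMaximal _).ne_top (top_le_iff.1 ((e.ge.trans hJ).trans (Ideal.pow_le_self n.succ_ne_zero)))
    haveI : IsLocalRing (X.presheaf.stalk z ⧸ J') := IsLocalRing.of_surjective' _ Ideal.Quotient.mk_surjective
    haveI : IsLocalHom mk'.hom := IsLocalHom.of_surjective _ Ideal.Quotient.mk_surjective
    let c : T := IsLocalRing.closedPoint (X.presheaf.stalk z ⧸ J')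
    have hp : p c = z := by
      show X.fromSpecStalk z (Spec.map mk' c) = z
      have : Spec.map mk' c = IsLocalRing.closedPoint (X.presheaf.stalk z) :=
        IsLocalRing.comap_closedPoint mk'.hom
      rw [this, Scheme.fromSpecStalk_closedPoint]
    refine ⟨i, l c, ?_, fun b hb => ?_⟩
    · rw [← Scheme.Hom.comp_apply, hl]; exact hp
    exact (ker_le_of_thick (x i) mk' l hl b hb fun r hr => hJ (Ideal.Quotient.eq_zero_iff_mem.1 hr))
  -- a maximal good open
  obtain ⟨i₀, hi₀⟩ := WellFounded.has_min (wellFounded_gt (α := X.Opens)) (Set.range (good Xi x))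
    (Set.range_nonempty _) |> fun ⟨_, ⟨i, rfl⟩, hmin⟩ => (⟨i, hmin⟩ : ∃ i, ∀ V ∈ Set.range (good Xi x), ¬ good Xi x i < V)
  have hmax : ∀ j, i₀ ≤ j → good Xi x j = good Xi x i₀ := fun j hj =>
    ((good_mono Xi x hmono hj).eq_of_not_lt (hi₀ _ ⟨j, rfl⟩)).symm
  refine ⟨i₀, isIso_of_good_eq_top Xi x i₀ ?_⟩
  by_contra hne
  let Z : Set X := (good Xi x i₀ : Set X)ᶜ
  have hZc : IsClosed Z := (good Xi x i₀).2.isClosed_compl
  obtain ⟨z₀, hz₀⟩ : Z.Nonempty := Set.nonempty_compl.2 fun e => hne (Opens.ext e)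
  -- a generic point of the bad set
  obtain ⟨z, hzZ, hzmax⟩ : ∃ z ∈ Z, ∀ y ∈ Z, y ⤳ z → y = z := by
    let C := irreducibleComponent (⟨z₀, hz₀⟩ : Z)
    have hCc : IsClosed ((↑) '' C : Set X) :=
      hZc.isClosedEmbedding_subtypeVal.isClosedMap _ isClosed_irreducibleComponent
    have hCi : IsIrreducible ((↑) '' C : Set X) :=
      isIrreducible_irreducibleComponent.image _ continuous_subtype_val.continuousOn
    have hg := hCi.isGenericPoint_genericPoint hCc
    obtain ⟨⟨z, hz⟩, hzC, hzg⟩ := hg.mem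
    refine ⟨z, hz, fun y hy hyz => ?_⟩
    have hyz' : (⟨y, hy⟩ : Z) ⤳ ⟨z, hz⟩ := (subtype_specializes_iff _ _).2 hyz
    have hsub : C ⊆ closure {(⟨y, hy⟩ : Z)} := fun w hw => by
      have : (z : X) ⤳ w := by
        rw [show z = _ from hzg]; exact hg.specializes ⟨w, hw, rfl⟩
      exact specializes_iff_mem_closure.1 (hyz'.trans ((subtype_specializes_iff _ _).2 this))
    have hmem := irreducibleComponent_mem_irreducibleComponents (⟨z₀, hz₀⟩ : Z)
    have heq : closure {(⟨y, hy⟩ : Z)} ⊆ C := hmem.2 isIrreducible_singleton.closure hsub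
    have hzy : z ⤳ y := by
      rw [show z = _ from hzg]
      exact hg.specializes ⟨⟨y, hy⟩, heq (subset_closure rfl), rfl⟩
    exact (hyz.antisymm hzy).eq
  -- the kernel at that point
  obtain ⟨i₁, a₁, ha₁, -⟩ := hthick z 0
  obtain ⟨i, hi0, hi1⟩ := exists_ge_ge i₀ i₁
  obtain ⟨t, ht⟩ := hmono i₁ i hi1
  let a := t a₁
  have ha : x i a = z := by rw [← Scheme.Hom.comp_apply, ht]; exact ha₁
  have hbad : z ∉ good Xi x i₀ := hzZ
  clear_value a
  subst ha
  obtain ⟨_, ⟨U : X.Opens, hU, rfl⟩, hzU, -⟩ :=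
    X.isBasis_affineOpens.exists_subset_of_mem_open (Set.mem_univ (x i a)) isOpen_univ
  letI := X.presheaf.algebra_section_stalk (⟨x i a, hzU⟩ : U)
  haveI := hU.isLocalization_stalk ⟨x i a, hzU⟩
  let K := RingHom.ker ((x i).stalkMap a).hom
  obtain ⟨n, hn⟩ := eq_bot_of_torsion K fun r hr P hP hPm => by
    let p := hU.primeIdealOf ⟨x i a, hzU⟩
    let q : PrimeSpectrum Γ(X, U) := PrimeSpectrum.comap (algebraMap Γ(X, U) (X.presheaf.stalk (x i a))) ⟨P, hP⟩
    have hqp : q ≤ p := fun c hc => by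
      by_contra hcp
      exact hP.ne_top (Ideal.eq_top_of_isUnit_mem _ hc (IsLocalization.map_units _ (⟨c, hcp⟩ : p.asIdeal.primeCompl)))
    have hyz : hU.fromSpec q ⤳ x i a := by
      have := ((PrimeSpectrum.le_iff_specializes q p).1 hqp).map hU.fromSpec.continuous
      rwa [hU.fromSpec_primeIdealOf] at this
    have hyne : hU.fromSpec q ≠ x i a := fun e => by
      have e' : q = p := hU.fromSpec.isOpenEmbedding.injective (e.trans (hU.fromSpec_primeIdealOf ⟨x i a, hzU⟩).symm)
      apply hPm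
      refine ((IsLocalRing.maximalIdeal.isMaximal _).eq_of_le hP.ne_top ?_).symm
      intro m hm
      obtain ⟨⟨c, s⟩, hcs⟩ := IsLocalization.surj p.asIdeal.primeCompl m
      have hcm : algebraMap _ (X.presheaf.stalk (x i a)) c ∈ IsLocalRing.maximalIdeal _ :=
        hcs ▸ Ideal.mul_mem_right _ _ hm
      have hcp : c ∈ q.asIdeal := by
        rw [e']
        by_contra hc'
        exact hcm (IsLocalization.map_units _ (⟨c, hc'⟩ : p.asIdeal.primeCompl))
      have : m * algebraMap _ _ (s : Γ(X, U)) ∈ P := hcs ▸ hcp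
      exact (hP.mem_or_mem this).resolve_right fun hs =>
        hP.ne_top (Ideal.eq_top_of_isUnit_mem _ hs (IsLocalization.map_units _ s))
    have hy : hU.fromSpec q ∈ good Xi x i := good_mono Xi x hmono hi0 (by
      by_contra hy
      exact hyne (hzmax _ hy hyz))
    obtain ⟨b, hb, hinj⟩ := ker_eq_of_good Xi x i _ hy
    have hba : b ⤳ a := (x i).isEmbedding.toIsInducing.specializes_iff.1 (hb.symm ▸ hyz)
    have h0 : (X.presheaf.stalkSpecializes (hba.map (x i).continuous)).hom r = 0 := by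
      apply hinj b hb
      rw [map_zero, Scheme.Hom.stalkSpecializes_stalkMap_apply]
      show (Xi i).presheaf.stalkSpecializes hba (((x i).stalkMap a).hom r) = 0
      rw [RingHom.mem_ker.1 hr, map_zero]
    have hyU : hU.fromSpec q ∈ U := by
      have : hU.fromSpec q ∈ Set.range hU.fromSpec := ⟨q, rfl⟩
      rwa [hU.range_fromSpec] at this
    obtain ⟨⟨c, s⟩, hcs⟩ := IsLocalization.surj p.asIdeal.primeCompl r
    have hbU : x i b ∈ U := hb ▸ hyU
    have hc0 : (X.presheaf.germ U (x i b) hbU).hom c = 0 := by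
      rw [← X.presheaf.germ_stalkSpecializes hzU (hba.map (x i).continuous), CommRingCat.hom_comp,
        RingHom.comp_apply]
      show (X.presheaf.stalkSpecializes _).hom (algebraMap Γ(X, U) (X.presheaf.stalk (x i a)) c) = 0
      rw [← hcs, map_mul, h0, zero_mul]
    have hc0' : (X.presheaf.germ U (hU.fromSpec q) hyU).hom c = 0 := by
      have : ∀ (y : X) (hy : y ∈ U), x i b = y → (X.presheaf.germ U y hy).hom c = 0 := by
        rintro y hy rfl; exact hc0
      exact this _ hyU hb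
    letI := X.presheaf.algebra_section_stalk (⟨hU.fromSpec q, hyU⟩ : U)
    haveI := hU.isLocalization_stalk' q hyU
    obtain ⟨d, hd⟩ := (IsLocalization.map_eq_zero_iff q.asIdeal.primeCompl (X.presheaf.stalk (hU.fromSpec q)) c).1 hc0'
    refine ⟨algebraMap _ _ (d : Γ(X, U)), d.2, ?_⟩
    apply (IsLocalization.map_units (X.presheaf.stalk (x i a)) s).mul_left_inj.1
    rw [zero_mul, mul_assoc, hcs, ← map_mul, hd, map_zero]
  obtain ⟨i₂, a₂, ha₂, hker⟩ := hthick (x i a) n
  obtain ⟨j, hj, hj2⟩ := exists_ge_ge i i₂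
  obtain ⟨t, ht⟩ := hmono i j hj
  obtain ⟨t₂, ht₂⟩ := hmono i₂ j hj2
  have hta : x j (t a) = x i a := by rw [← Scheme.Hom.comp_apply, ht]
  have htb : t₂ a₂ = t a := (x j).isEmbedding.injective (by rw [hta, ← Scheme.Hom.comp_apply, ht₂, ha₂])
  refine hbad (hmax j (hi0.trans hj) ▸ ?_)
  rw [← hta]
  refine mem_good_of_injective Xi x j (t a) ((injective_iff_map_eq_zero _).2 fun r hr => ?_)
  -- transport to the stalk at `x i a`
  have hr1 : ∀ (e : x j (t a) = x i a),
      (X.presheaf.stalkSpecializes (Inseparable.of_eq e.symm).specializes).hom r ∈ K := fun e => by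
    have h1 : ((t ≫ x j).stalkMap a).hom r = 0 := by
      rw [Scheme.Hom.stalkMap_comp, CommRingCat.hom_comp, RingHom.comp_apply]
      exact (congrArg (t.stalkMap a).hom hr).trans (map_zero _)
    rw [RingHom.mem_ker, ← h1, Scheme.Hom.stalkMap_congr_hom _ _ ht a]
    rfl
  have hr2 : ∀ (e : x j (t a) = x i a),
      (X.presheaf.stalkSpecializes (Inseparable.of_eq e.symm).specializes).hom r ∈
        IsLocalRing.maximalIdeal (X.presheaf.stalk (x i a)) ^ (n + 1) := fun e => by
    have key : ∀ (b : Xi j) (hb : b = t a), ∀ (r : X.presheaf.stalk (x j b)), ((x j).stalkMap b).hom r = 0 →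
        ∀ (y : X) (hy : x j b = y), y = x i a → b = t₂ a₂ →
        (X.presheaf.stalkSpecializes (Inseparable.of_eq hy.symm).specializes).hom r ∈
          IsLocalRing.maximalIdeal (X.presheaf.stalk y) ^ (n + 1) := by
      rintro b - r hr y rfl hy rfl
      simp only [TopCat.Presheaf.stalkSpecializes_refl, CommRingCat.hom_id, RingHom.id_apply]
      have h1 : ((t₂ ≫ x j).stalkMap a₂).hom r = 0 := by
        rw [Scheme.Hom.stalkMap_comp, CommRingCat.hom_comp, RingHom.comp_apply]
        exact (congrArg (t₂.stalkMap a₂).hom hr).trans (map_zero _)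
      rw [Scheme.Hom.stalkMap_congr_hom _ _ ht₂ a₂] at h1
      have h2 := hker a₂ ha₂ (RingHom.mem_ker.2 h1)
      have key2 : ∀ (y : X) (e : x i₂ a₂ = y) (r' : X.presheaf.stalk y),
          (X.presheaf.stalkSpecializes (Inseparable.of_eq e).specializes).hom r' ∈
            IsLocalRing.maximalIdeal (X.presheaf.stalk (x i₂ a₂)) ^ (n + 1) →
          r' ∈ IsLocalRing.maximalIdeal (X.presheaf.stalk y) ^ (n + 1) := by
        rintro y rfl r'
        simp
      exact key2 _ (by rw [← Scheme.Hom.comp_apply, ht₂]) r h2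
    exact key _ rfl r hr _ e rfl htb.symm
  have h3 : (X.presheaf.stalkSpecializes (Inseparable.of_eq hta.symm).specializes).hom r ∈
      K ⊓ IsLocalRing.maximalIdeal (X.presheaf.stalk (x i a)) ^ n :=
    ⟨hr1 hta, Ideal.pow_le_pow_right n.le_succ (hr2 hta)⟩
  rw [hn, Ideal.mem_bot] at h3
  have key3 : ∀ (y : X) (e : x j (t a) = y),
      (X.presheaf.stalkSpecializes (Inseparable.of_eq e.symm).specializes).hom r = 0 → r = 0 := by
    rintro y rfl; simp
  exact key3 _ hta h3

end Groth.Agent.FiltSub
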